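import Cfsg.Agent.Omega.TC.RSix.End
import Cfsg.Agent.Omega.TC.R.Def

/-!
# THEOREM R (bb OMEGA #21425), part (6), in the literal interface of `TC/R/Def.lean`

`D : Fr T V P v`, `V i ≰ N_i` and `(1b)` (`R.OneB T V v i`) for both `i`: contradiction.
No swap, no offender, no `(1a)`.
-/

set_option autoImplicit false

namespace Cfsg.Agent.Omega.TC.RSix

open Subgroup Cfsg Cfsg.Agent.ZN
open Cfsg.Agent.Omega.OM.KTwo (CC QQ WU NU EU)
open scoped Pointwise

universe u

variable {G : Type u} [Group G] {T : Subgroup G} {V P : Fin 2 → Subgroup G} {v : Fin 2 → G}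

theorem oneB_of [Finite G] (h : ∀ i, R.OneB T V v i) : OneB T V v := fun i A hA hm hc =>
  h i A hA hm (hc.trans (centralizer_le (show (WU V v i : Set G) ⊆ (WU V v i ⊔ NU V v i : Subgroup G) from
    (le_sup_left : WU V v i ≤ WU V v i ⊔ NU V v i))))

/-- **#21425 (6)** -/
theorem six' [Finite G] (D : Fr T V P v) (hML : ML.Final.MLK.{u, u}) (hK : ∀ i, IsKGroup (CC v i))
    (hV : ∀ i, ¬ V i ≤ NU V v i) (h1b : ∀ i, R.OneB T V v i) : False :=
  six D hML hK hV (oneB_of h1b)

end Cfsg.Agent.Omega.TC.RSix
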