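import Cfsg.Agent.Omega.OM.PG.Peel

/-!
# THEOREM R (bb OMEGA #21425), part (6): the peeling at one vertex (TEXT R5 #19750 (4)), abstract form

`PD Q Q₁ N₀ N X c` : a family of elementary abelian groups `N u ≤ X u ≤ Q ⊓ Q₁` generating an abelian group `Y`,
`[X u, C_Q(N u)] ≤ ⟨c u⟩`, (NO) for `Q` on `N u` and for `Q₁` on `N₀ ≤ Y`, `C_{Q₁}(N₀) ≤ Q ≤ C(N₀)`.

* `sep` : if some `A ∈ AA Q` moves some `N u`, and no `A ∈ AA Q` which moves `N u` satisfies `C_A(N u) ≤ C(X u)`, then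
  some `g ∈ Q` centralises all `N u` and all `X p`, `c p ≠ c u`, but not `X u`, for some `u`;
* `false_of` : then the groups in `AA Q₁` do not move `X u`, for such `u`.
-/

set_option autoImplicit false
set_option linter.unusedSectionVars false

namespace Cfsg.Agent.Omega.TC.RSix.Peel

open Subgroup Cfsg Cfsg.Agent.ZN Cfsg.Agent.Omega.MinPar
open Cfsg.Agent.ZN.ChoiceBase (AA)
open Cfsg.Agent.Omega.NoFF.Basic (comm_symm)
open Cfsg.Agent.Omega.NO3S.EThree.ExactA (eab_iff eab_sup eab_mono swp no_sup MinA exists_minA)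
open Cfsg.Agent.Omega.OM.PG.Peel (Nob Exa nob_of nob_of_le exa_peel nob_two exists_mul_of_comm not_le_iSup)
open scoped Pointwise

universe u

variable {G : Type u} [Group G]

/-- The data at one vertex. -/
structure PD {ι : Type*} (Q Q₁ N₀ : Subgroup G) (N X : ι → Subgroup G) (c : ι → G) : Prop where
  NX : ∀ u, N u ≤ X u
  cc : ∀ u, c u * c u = 1
  Xc : ∀ u p, X u ≤ centralizer (X p : Set G)
  Xsq : ∀ u, ∀ x ∈ X u, x ^ 2 = 1
  XQ : ∀ u, X u ≤ Q
  XQ1 : ∀ u, X u ≤ Q₁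
  N0 : N₀ ≤ ⨆ u, X u
  QN0 : Q ≤ centralizer (N₀ : Set G)
  Q1N0 : Q₁ ⊓ centralizer (N₀ : Set G) ≤ Q
  cQ : ∀ u, ∀ g ∈ Q, g ∈ centralizer (N u : Set G) → g * c u = c u * g
  com : ∀ u, ∀ x ∈ X u, ∀ g ∈ Q, g ∈ centralizer (N u : Set G) → g * x * g⁻¹ = x ∨ g * x * g⁻¹ = x * c u
  noN : ∀ u, ∀ B : Subgroup G, IsElementaryAbelian 2 B → B ≤ Q → Nob (N u) B
  no0 : ∀ B : Subgroup G, IsElementaryAbelian 2 B → B ≤ Q₁ → Nob N₀ B

variable [Finite G] {ι : Type*} {Q Q₁ N₀ : Subgroup G} {N X : ι → Subgroup G} {c : ι → G}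
  (D : PD Q Q₁ N₀ N X c)

include D

theorem Y_comm : (⨆ u, X u) ≤ centralizer ((⨆ u, X u : Subgroup G) : Set G) :=
  iSup_le fun u => comm_symm (iSup_le fun p => D.Xc p u)

theorem Y_eab : IsElementaryAbelian 2 (⨆ u, X u : Subgroup G) := by
  rw [eab_iff]
  exact ⟨Y_comm D, NoFF.Lines.Geo.sq_of_comm (Y_comm D) (ι := ι) (B := X) (fun u => le_iSup X u) le_rfl D.Xsq⟩

theorem X_eab (u : ι) : IsElementaryAbelian 2 (X u) := eab_mono (Y_eab D) (le_iSup X u)

theorem N_eab (u : ι) : IsElementaryAbelian 2 (N u) := eab_mono (X_eab D u) (D.NX u)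

theorem Y_le_Q : (⨆ u, X u) ≤ Q := iSup_le D.XQ

theorem Y_le_Q1 : (⨆ u, X u) ≤ Q₁ := iSup_le D.XQ1

theorem M_le_Y : (⨆ u, N u) ≤ ⨆ u, X u := iSup_mono D.NX

theorem M_comm : (⨆ u, N u) ≤ centralizer ((⨆ u, N u : Subgroup G) : Set G) :=
  ((M_le_Y D).trans (Y_comm D)).trans (centralizer_le (M_le_Y D))

/-- `(NO)` for `C_Q(N u)` on `X u` -/
theorem nobX (u : ι) {B : Subgroup G} (hB : IsElementaryAbelian 2 B) (hBQ : B ≤ Q ⊓ centralizer (N u : Set G)) :
    Nob (X u) B :=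
  nob_two (Q := Q ⊓ centralizer (N u : Set G)) (D.cc u) (fun b hb => D.cQ u b hb.1 hb.2)
    (fun x hx b hb => D.com u x hx b hb.1 hb.2) hB hBQ

theorem nobY0 {B : Subgroup G} (hB : IsElementaryAbelian 2 B)
    (hBQ : B ≤ Q ⊓ centralizer ((⨆ u, N u : Subgroup G) : Set G)) : Nob (⨆ u, X u) B :=
  no_sup (N := X) (M := ⨆ u, X u) (Q := Q ⊓ centralizer ((⨆ u, N u : Subgroup G) : Set G)) (fun u => le_iSup X u)
    le_rfl (fun u _ hB hBQ => nobX D u hB (hBQ.trans (inf_le_inf_left _ (centralizer_le (le_iSup N u))))) B hB hBQ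

theorem nobM {B : Subgroup G} (hB : IsElementaryAbelian 2 B) (hBQ : B ≤ Q) : Nob (⨆ u, N u) B :=
  no_sup (N := N) (M := ⨆ u, N u) (Q := Q) (fun u => le_iSup N u) le_rfl (fun u B hB hBQ => D.noN u B hB hBQ) B hB hBQ

theorem nobY1 {B : Subgroup G} (hB : IsElementaryAbelian 2 B) (hBQ : B ≤ Q) : Nob (⨆ u, X u) B :=
  nob_of (M_le_Y D) (nobM D hB hBQ) (nobY0 D (eab_mono hB inf_le_left) (inf_le_inf_right _ hBQ))

theorem nobY2 {B : Subgroup G} (hB : IsElementaryAbelian 2 B) (hBQ : B ≤ Q₁) : Nob (⨆ u, X u) B :=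
  nob_of D.N0 (D.no0 B hB hBQ) (nobY1 D (eab_mono hB inf_le_left) ((inf_le_inf_right _ hBQ).trans D.Q1N0))

theorem nobT1 {B : Subgroup G} (hB : IsElementaryAbelian 2 B) (hBQ : B ≤ Q) : Nob ((⨆ u, N u) ⊔ N₀) B :=
  nob_of le_sup_left (nobM D hB hBQ) (nob_of_le (comm_symm (sup_le (comm_symm inf_le_right)
    (comm_symm (inf_le_left.trans (hBQ.trans D.QN0))))))

theorem nobT2 {B : Subgroup G} (hB : IsElementaryAbelian 2 B) (hBQ : B ≤ Q₁) : Nob ((⨆ u, N u) ⊔ N₀) B :=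
  nob_of le_sup_right (D.no0 B hB hBQ) (nobT1 D (eab_mono hB inf_le_left) ((inf_le_inf_right _ hBQ).trans D.Q1N0))

/-- exactness of the members of `AA R` on `Y`, `R ≥ Y` -/
theorem exaY {A R : Subgroup G} (hYR : (⨆ u, X u) ≤ R) (hA : A ∈ AA R) (h : Nob (⨆ u, X u) A) : Exa (⨆ u, X u) A :=
  (swp (Y_eab D) hYR hA h).1

/-- some `B ∈ AA Q` centralises all `N u` and moves some `X u` -/
theorem exists_B (hmv : ∃ A ∈ AA Q, ¬ A ≤ centralizer ((⨆ u, N u : Subgroup G) : Set G))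
    (h1b : ∀ u, ∀ A ∈ AA Q, ¬ A ≤ centralizer (N u : Set G) →
      ¬ A ⊓ centralizer (N u : Set G) ≤ centralizer (X u : Set G)) :
    ∃ B ∈ AA Q, B ≤ centralizer ((⨆ u, N u : Subgroup G) : Set G) ∧
      ¬ B ≤ centralizer ((⨆ u, X u : Subgroup G) : Set G) := by
  obtain ⟨A₀, hA₀, hmv₀⟩ := hmv
  obtain ⟨A, hA⟩ := exists_minA hA₀ hmv₀
  obtain ⟨u, hu⟩ := not_le_iSup hA.mov
  have hM : IsElementaryAbelian 2 (⨆ u, N u : Subgroup G) := eab_mono (Y_eab D) (M_le_Y D)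
  have hMQ : (⨆ u, N u) ≤ Q := (M_le_Y D).trans (Y_le_Q D)
  have hno := D.noN u A hA.mem.1 hA.mem.2.1
  obtain ⟨h1, -, -, -⟩ := hA.cap hM hMQ (le_iSup N u) hu hno
  obtain ⟨-, -, h2⟩ := swp (N_eab D u) ((le_iSup N u).trans hMQ) hA.mem hno
  refine ⟨_, h2, sup_le h1 ((le_iSup N u).trans (M_comm D)), fun hcon => h1b u A hA.mem hu ?_⟩
  exact (le_sup_left.trans hcon).trans (centralizer_le (le_iSup X u))

/-- **(a)** -/
theorem sep (hmv : ∃ A ∈ AA Q, ¬ A ≤ centralizer ((⨆ u, N u : Subgroup G) : Set G))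
    (h1b : ∀ u, ∀ A ∈ AA Q, ¬ A ≤ centralizer (N u : Set G) →
      ¬ A ⊓ centralizer (N u : Set G) ≤ centralizer (X u : Set G)) :
    ∃ u, ∃ g ∈ Q, g ∈ centralizer ((⨆ u, N u : Subgroup G) : Set G) ∧
      (∀ p, c p ≠ c u → g ∈ centralizer (X p : Set G)) ∧ g ∉ centralizer (X u : Set G) := by
  obtain ⟨B, hB, hBM, hBY⟩ := exists_B D hmv h1b
  set M : Subgroup G := ⨆ u, N u with hM
  set Q' := Q ⊓ centralizer (M : Set G) with hQ'
  have hBQ' : B ∈ AA Q' := ⟨hB.1, le_inf hB.2.1 hBM, fun E hE hEQ => hB.2.2 E hE (hEQ.trans inf_le_left)⟩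
  obtain ⟨C, hCm⟩ := exists_minA hBQ' hBY
  obtain ⟨u, hu⟩ := not_le_iSup hCm.mov
  have hCQ : C ≤ Q := hCm.mem.2.1.trans inf_le_left
  have hCM : C ≤ centralizer (M : Set G) := hCm.mem.2.1.trans inf_le_right
  have hCN : ∀ p, C ≤ centralizer (N p : Set G) := fun p => hCM.trans (centralizer_le (le_iSup N p))
  have hYQ' : (⨆ u, X u) ≤ Q' :=
    le_inf (Y_le_Q D) ((Y_comm D).trans (centralizer_le (M_le_Y D)))
  obtain ⟨-, -, -, h4⟩ := hCm.cap (Y_eab D) hYQ' (le_iSup X u) hu (nobX D u hCm.mem.1 (le_inf hCQ (hCN u)))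
  obtain ⟨g, hgC, hgu⟩ := SetLike.not_le_iff_exists.1 hu
  refine ⟨u, g, hCQ hgC, hCM hgC, fun p hpu => mem_centralizer_iff.2 fun x hx => ?_, hgu⟩
  have key : ∀ q, ∀ y ∈ X q, y * g * y⁻¹ * g⁻¹ = 1 ∨ y * g * y⁻¹ * g⁻¹ = c q := by
    intro q y hy
    have hci : (c q)⁻¹ = c q := inv_eq_of_mul_eq_one_left (D.cc q)
    rcases D.com q y hy g (hCQ hgC) (hCN q hgC) with e | e
    · left
      have e1 : g * y = y * g := mul_inv_eq_iff_eq_mul.1 e
      rw [← e1]; group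
    · right
      have e1 : g * y = y * c q * g := mul_inv_eq_iff_eq_mul.1 e
      have e2 : g * c q = c q * g := D.cQ q g (hCQ hgC) (hCN q hgC)
      have e3 : g * y * c q = y * g := by
        calc g * y * c q = y * c q * (g * c q) := by rw [e1]; group
          _ = y * (c q * c q) * g := by rw [e2]; group
          _ = y * g := by rw [D.cc q, mul_one]
      have e4 : y * c q = c q * y := by
        have e5 : (y * c q) ^ 2 = 1 := by
          rw [← e, conj_pow, D.Xsq q y hy, mul_one, mul_inv_cancel]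
        have e6 : y * y = 1 := by rw [← pow_two]; exact D.Xsq q y hy
        have e7 : y * c q * (y * c q) = 1 := by rw [← pow_two]; exact e5
        calc y * c q = (y * c q)⁻¹ := (inv_eq_of_mul_eq_one_left e7).symm
          _ = c q * y := by rw [mul_inv_rev, hci, inv_eq_of_mul_eq_one_left e6]
      calc y * g * y⁻¹ * g⁻¹ = g * y * c q * y⁻¹ * g⁻¹ := by rw [e3]
        _ = g * (y * c q) * y⁻¹ * g⁻¹ := by group
        _ = g * (c q * y) * y⁻¹ * g⁻¹ := by rw [e4]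
        _ = (g * c q) * g⁻¹ := by group
        _ = c q := by rw [e2]; group
  have h6 : x * g * x⁻¹ * g⁻¹ = 1 ∨ x * g * x⁻¹ * g⁻¹ = c u := by
    obtain ⟨v, hv, e⟩ := h4 x (le_iSup X p hx) g hgC
    rw [e]
    exact key u v hv
  have h7 := key p x hx
  have h8 : x * g * x⁻¹ * g⁻¹ = 1 := by
    rcases h6 with h | h
    · exact h
    · rcases h7 with h' | h'
      · exact h'
      · exact absurd (h'.symm.trans h) hpu
  calc x * g = (x * g * x⁻¹ * g⁻¹) * (g * x) := by group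
    _ = g * x := by rw [h8, one_mul]

/-- **TEXT R5 (4) (b)** -/
theorem false_of {A : Subgroup G} (hA : A ∈ AA Q₁) {x : G} (hxA : x ∈ A) {u u' : ι}
    (hXu : X u' = MulAut.conj x • X u) (huu : c u' ≠ c u)
    (hxT : ∀ t ∈ (⨆ u, N u) ⊔ N₀, x * t * x⁻¹ ∈ (⨆ u, N u) ⊔ N₀) {g : G} (hgQ : g ∈ Q)
    (hgM : g ∈ centralizer ((⨆ u, N u : Subgroup G) : Set G)) (hgX : g ∈ centralizer (X u' : Set G))
    (hgu : g ∉ centralizer (X u : Set G)) : False := by
  have hAab := (eab_iff.1 hA.1).1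
  set T : Subgroup G := (⨆ u, N u) ⊔ N₀ with hT
  have hTY : T ≤ ⨆ u, X u := sup_le (M_le_Y D) D.N0
  set AM := A ⊓ centralizer (T : Set G) with hAM
  have hAMQ : AM ≤ Q := (le_inf (inf_le_left.trans hA.2.1)
    (inf_le_right.trans (centralizer_le (le_sup_right : N₀ ≤ T)))).trans D.Q1N0
  have hAMe : IsElementaryAbelian 2 AM := eab_mono hA.1 inf_le_left
  have hAMM : AM ≤ centralizer ((⨆ u, N u : Subgroup G) : Set G) :=
    inf_le_right.trans (centralizer_le (le_sup_left : (⨆ u, N u) ≤ T))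
  have hAMu : ∀ p, AM ≤ Q ⊓ centralizer (N p : Set G) := fun p =>
    le_inf hAMQ (hAMM.trans (centralizer_le (le_iSup N p)))
  have hE := exaY D (Y_le_Q1 D) hA (nobY2 D hA.1 hA.2.1)
  obtain ⟨h1, h2⟩ := exa_peel hTY hE (nobT2 D hA.1 hA.2.1) (nobY1 D hAMe hAMQ)
  obtain ⟨-, h3⟩ := exa_peel (le_iSup X u) h1 (nobX D u hAMe (hAMu u))
    (nobY1 D (eab_mono hAMe inf_le_left) (inf_le_left.trans hAMQ))
  have hYc := Y_comm D
  -- commutators of `A_M` with `X p`
  have com : ∀ p, ∀ y ∈ AM, ∀ s ∈ X p, y * s * y⁻¹ * s⁻¹ = 1 ∨ y * s * y⁻¹ * s⁻¹ = c p := by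
    intro p y hy s hs
    rcases D.com p s hs y (hAMu p hy).1 (hAMu p hy).2 with e | e
    · left; rw [e, mul_inv_cancel]
    · right
      have e4 : s * c p = c p * s := by
        have e5 : (s * c p) ^ 2 = 1 := by
          rw [← e, conj_pow, D.Xsq p s hs, mul_one, mul_inv_cancel]
        have e6 : s * s = 1 := by rw [← pow_two]; exact D.Xsq p s hs
        have e7 : s * c p * (s * c p) = 1 := by rw [← pow_two]; exact e5
        have hci : (c p)⁻¹ = c p := inv_eq_of_mul_eq_one_left (D.cc p)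
        calc s * c p = (s * c p)⁻¹ := (inv_eq_of_mul_eq_one_left e7).symm
          _ = c p * s := by rw [mul_inv_rev, hci, inv_eq_of_mul_eq_one_left e6]
      rw [e, e4]; group
  -- `A_M` centralises `X u'`
  have h4 : AM ≤ centralizer (X u' : Set G) := by
    intro y hy
    refine mem_centralizer_iff.2 fun s hs => ?_
    have h5 : s ∈ (⨆ u, X u) ⊓ centralizer ((AM ⊓ centralizer (X u : Set G) : Subgroup G) : Set G) := by
      refine ⟨le_iSup X u' hs, mem_centralizer_iff.2 fun w hw => ?_⟩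
      rw [hXu] at hs
      obtain ⟨t, ht, rfl⟩ := hs
      have e1 : x * w = w * x := mem_centralizer_iff.1 (hAab hw.1.1) x hxA
      have e2 : t * w = w * t := mem_centralizer_iff.1 hw.2 t ht
      change w * (x * t * x⁻¹) = x * t * x⁻¹ * w
      have e3 : x⁻¹ * w = w * x⁻¹ := mem_centralizer_iff.1 (hAab hw.1.1) x⁻¹ (inv_mem hxA)
      calc w * (x * t * x⁻¹) = (w * x) * t * x⁻¹ := by group
        _ = x * (w * t) * x⁻¹ := by rw [← e1]; group
        _ = x * t * (w * x⁻¹) := by rw [← e2]; group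
        _ = x * t * x⁻¹ * w := by rw [← e3]; group
    obtain ⟨v, hv, w, hw, rfl⟩ := exists_mul_of_comm (V := X u)
      (D := (⨆ u, X u) ⊓ centralizer (AM : Set G)) ((le_iSup X u).trans (hYc.trans (centralizer_le inf_le_left)))
      (h3 h5)
    have e1 : y * w = w * y := mem_centralizer_iff.1 hw.2 y hy
    have e2 : y * (v * w) * y⁻¹ * (v * w)⁻¹ = y * v * y⁻¹ * v⁻¹ := by
      calc y * (v * w) * y⁻¹ * (v * w)⁻¹ = y * v * (w * y⁻¹) * w⁻¹ * v⁻¹ := by group
        _ = y * v * (y⁻¹ * w) * w⁻¹ * v⁻¹ := by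
          have e3 : y⁻¹ * w = w * y⁻¹ := mem_centralizer_iff.1 hw.2 _ (inv_mem hy)
          rw [e3]
        _ = _ := by group
    have h6 := com u y hy v hv
    rw [← e2] at h6
    have h7 := com u' y hy _ hs
    have h8 : y * (v * w) * y⁻¹ * (v * w)⁻¹ = 1 := by
      rcases h6 with h | h
      · exact h
      · rcases h7 with h' | h'
        · exact h'
        · exact absurd (h'.symm.trans h) huu
    exact (mul_inv_eq_iff_eq_mul.1 (mul_inv_eq_one.1 h8)).symm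
  -- `A_M` centralises `X u`
  have h5 : AM ≤ centralizer (X u : Set G) := by
    intro y hy
    refine mem_centralizer_iff.2 fun s hs => ?_
    have e1 : x * y = y * x := mem_centralizer_iff.1 (hAab hy.1) x hxA
    have h6 : x * s * x⁻¹ ∈ X u' := by rw [hXu]; exact ⟨s, hs, rfl⟩
    have h7 := mem_centralizer_iff.1 (h4 hy) _ h6
    have e3 : x⁻¹ * y = y * x⁻¹ := mem_centralizer_iff.1 (hAab hy.1) x⁻¹ (inv_mem hxA)
    have e4 : x * (s * y) * x⁻¹ = x * (y * s) * x⁻¹ := by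
      calc x * (s * y) * x⁻¹ = x * s * (y * x⁻¹) := by group
        _ = x * s * x⁻¹ * y := by rw [← e3]; group
        _ = y * (x * s * x⁻¹) := h7
        _ = (y * x) * s * x⁻¹ := by group
        _ = x * (y * s) * x⁻¹ := by rw [← e1]; group
    exact mul_left_cancel (mul_right_cancel e4)
  -- `X u ≤ T X u'`
  apply hgu
  refine mem_centralizer_iff.2 fun s hs => ?_
  have hgT : g ∈ centralizer (T : Set G) := by
    have h6 : T ≤ centralizer ({g} : Set G) := by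
      refine sup_le (fun t ht => ?_) fun t ht => ?_
      · rw [mem_centralizer_singleton_iff]
        exact mem_centralizer_iff.1 hgM t ht
      · rw [mem_centralizer_singleton_iff]
        exact mem_centralizer_iff.1 (D.QN0 hgQ) t ht
    exact mem_centralizer_iff.2 fun t ht => mem_centralizer_singleton_iff.1 (h6 ht)
  obtain ⟨t, ht, k, hk, rfl⟩ := exists_mul_of_comm (V := T) (D := (⨆ u, X u) ⊓ centralizer (A : Set G))
    (hTY.trans (hYc.trans (centralizer_le inf_le_left)))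
    (h2 ⟨le_iSup X u hs, mem_centralizer_iff.2 fun y hy => (mem_centralizer_iff.1 (h5 hy) s hs).symm⟩)
  have e1 : x * k = k * x := mem_centralizer_iff.1 hk.2 x hxA
  have e2 : x * (t * k) * x⁻¹ = x * t * x⁻¹ * k := by
    calc x * (t * k) * x⁻¹ = x * t * x⁻¹ * (x * k) * x⁻¹ := by group
      _ = x * t * x⁻¹ * (k * x) * x⁻¹ := by rw [e1]
      _ = x * t * x⁻¹ * k := by group
  have k1 : t ∈ centralizer ({g} : Set G) := by
    rw [mem_centralizer_singleton_iff]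
    exact mem_centralizer_iff.1 hgT t ht
  have k2 : x * t * x⁻¹ ∈ centralizer ({g} : Set G) := by
    rw [mem_centralizer_singleton_iff]
    exact mem_centralizer_iff.1 hgT _ (hxT t ht)
  have k3 : x * t * x⁻¹ * k ∈ centralizer ({g} : Set G) := by
    rw [mem_centralizer_singleton_iff, ← e2]
    refine mem_centralizer_iff.1 hgX _ ?_
    rw [hXu]
    exact ⟨_, hs, rfl⟩
  have k4 : k ∈ centralizer ({g} : Set G) := by
    have := mul_mem (inv_mem k2) k3
    rwa [inv_mul_cancel_left] at this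
  exact mem_centralizer_singleton_iff.1 (mul_mem k1 k4)

end Cfsg.Agent.Omega.TC.RSix.Peel
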