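import Cfsg.Agent.Omega.TC.RSix.Ex
import Cfsg.Agent.Omega.TC.RSix.Peel
import Cfsg.Agent.Omega.TC.OneEnd

/-!
# THEOREM R (bb OMEGA #21425), part (6): the end

`D : Fr T V P v`, no swap, `V i ≰ N_i` for both `i` and (1b) (`OneB T V v`): contradiction.

* `pd` : `Peel.PD` at the vertex `v i` for the family `X_j^c`, `c ∈ C_i`;
* `six` : **the end of THEOREM R**.
-/

set_option autoImplicit false
set_option linter.unusedSectionVars false

namespace Cfsg.Agent.Omega.TC.RSix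

open Subgroup Cfsg Cfsg.Agent.ZN Cfsg.Agent.Omega.MinPar
open Cfsg.Agent.Omega.OM.KTwo (CC QQ WU NU EU ne_add_one eq_add_one add_one_add_one le_normalizer_V le_V)
open Cfsg.Agent.Omega.NoFF.Basic (conj_conj mem_conj conj_le_iff comm_symm comm_mono Z_le_V V_le
  conj_le_centralizer)
open Cfsg.Agent.Omega.NOThreeL.Pair (conj_eq_of_mem)
open Cfsg.Agent.ZN.ChoiceBase (AA cj cj_mem_AA)
open Cfsg.Agent.Omega.NO3S.EThree.ExactA (eab_iff)
open Cfsg.Agent.Omega.TC.DOne (FixE)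
open scoped Pointwise commutatorElement

universe u

variable {G : Type u} [Group G]

theorem mem_cent_conj' {k : G} {A : Subgroup G} {g : G} :
    k * g * k⁻¹ ∈ centralizer ((MulAut.conj k • A : Subgroup G) : Set G) ↔ g ∈ centralizer (A : Set G) :=
  OM.PG.Peel.mem_cent_conj

variable [Finite G] {T : Subgroup G} {V P : Fin 2 → Subgroup G} {v : Fin 2 → G} (D : Fr T V P v)

include D

theorem pd (hML : ML.Final.MLK.{u, u}) (hK : ∀ i, IsKGroup (CC v i)) {i j : Fin 2} (hij : i ≠ j)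
    (h1 : XX V v i ≤ centralizer (XX V v j : Set G))
    (h2 : ∀ c ∈ CC v i, (MulAut.conj c • XX V v j : Subgroup G) ≤ centralizer (XX V v j : Set G)) :
    Peel.PD (ι := CC v i) (QQ v i) (QQ v j) (NU V v i) (fun c => MulAut.conj (c : G) • NU V v j)
      (fun c => MulAut.conj (c : G) • XX V v j) (fun c => (c : G) * v j * (c : G)⁻¹) := by
  have hXQ : XX V v j ≤ QQ v i := X_le_Q' D hML hK h1
  have hcQ : ∀ {k : G}, k ∈ CC v i → (MulAut.conj k • XX V v j : Subgroup G) ≤ QQ v i := fun {k} hk => by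
    rw [← D.conj_QQ hk]
    exact conj_le_iff.2 hXQ
  have hcj : ∀ {k y : G}, k ∈ CC v i → y ∈ QQ v i → k⁻¹ * y * k ∈ QQ v i := fun {k y} hk hy => by
    have h3 := (mem_normalizer_iff.1 (MinSimple.VModule.le_normalizer_o2 _ (inv_mem hk)) y).1 hy
    rwa [inv_inv] at h3
  have hXc : ∀ u p : CC v i, (MulAut.conj (u : G) • XX V v j : Subgroup G) ≤
      centralizer ((MulAut.conj (p : G) • XX V v j : Subgroup G) : Set G) := fun u p => by
    have h3 := conj_le_centralizer (g := (p : G)) (h2 ((p : G)⁻¹ * u) (mul_mem (inv_mem p.2) u.2))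
    rwa [conj_conj, mul_inv_cancel_left] at h3
  refine ⟨fun u => conj_le_iff.2 (N_le_X D j), fun u => ?_, hXc, fun u => ?_, fun u => hcQ u.2, fun u => ?_, ?_,
    D.Q_le_cent_N i, (inf_le_inf_right _ (D.Q_le_o2D j)).trans (D.f3 i), fun u g hg _ => ?_, fun u x hx g hg hgN => ?_,
    fun u B hB hBQ => ?_, fun B hB hBQ => ?_⟩
  · have e : (u : G) * v j * (u : G)⁻¹ * ((u : G) * v j * (u : G)⁻¹) = u * (v j * v j) * (u : G)⁻¹ := by group
    rw [e, D.v_sq, mul_one, mul_inv_cancel]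
  · rintro _ ⟨y, hy, rfl⟩
    change ((u : G) * y * (u : G)⁻¹) ^ 2 = 1
    rw [conj_pow, D.WN_sq j y hy, mul_one, mul_inv_cancel]
  · have h3 := hXc u 1
    rw [OneMemClass.coe_one, map_one, one_smul] at h3
    exact fun x hx => D.f3 j ⟨D.Q_le_o2D i (hcQ u.2 hx), centralizer_le (N_le_X D j) (h3 hx)⟩
  · refine V_le fun c hc => ?_
    have h3 : V (i + 1) ≤ XX V v j := by
      rw [← eq_add_one hij]
      exact (D.V_le_W j).trans le_sup_left
    exact (conj_le_iff.2 h3).trans (le_iSup (fun c : CC v i => (MulAut.conj (c : G) • XX V v j : Subgroup G)) ⟨c, hc⟩)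
  · have h3 := D.comm_v j (D.Q_le_T i (hcj u.2 hg))
    calc g * ((u : G) * v j * (u : G)⁻¹) = u * ((u : G)⁻¹ * g * u * v j) * (u : G)⁻¹ := by group
      _ = u * (v j * ((u : G)⁻¹ * g * u)) * (u : G)⁻¹ := by rw [h3]
      _ = _ := by group
  · rw [mem_conj] at hx
    have hgN' : (u : G)⁻¹ * g * u ∈ centralizer (NU V v j : Set G) := by
      rw [← mem_cent_conj' (k := (u : G))]
      have e : (u : G) * ((u : G)⁻¹ * g * u) * (u : G)⁻¹ = g := by group
      rw [e]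
      exact hgN
    have hg' : (u : G)⁻¹ * g * u ∈ QQ v j := D.f3 j ⟨D.Q_le_o2D i (hcj u.2 hg), hgN'⟩
    set x' := (u : G)⁻¹ * x * u with hx'
    set g' := (u : G)⁻¹ * g * u with hg'd
    have e0 : g * x * g⁻¹ = u * (g' * x' * g'⁻¹) * (u : G)⁻¹ := by rw [hx', hg'd]; group
    have e1 : x = u * x' * (u : G)⁻¹ := by rw [hx']; group
    rcases mem_zp' (D.v_sq j) (com_XQ D j hx hg') with h | h
    · left
      have h3 : x' * g' = g' * x' := mul_inv_eq_iff_eq_mul.1 (mul_inv_eq_one.1 h)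
      rw [e0, ← h3]
      conv_rhs => rw [e1]
      group
    · right
      have h3 : x' * g' = v j * g' * x' := by
        have h4 := mul_inv_eq_iff_eq_mul.1 h
        have h5 := mul_inv_eq_iff_eq_mul.1 h4
        rw [h5]
      have h4 : g' * x' * g'⁻¹ = x' * v j := by
        have h5 : x' * v j = v j * x' := D.comm_v j (X_le_T D j hx)
        have h6 : v j * (x' * g') = g' * x' := by
          calc v j * (x' * g') = v j * (v j * g' * x') := by rw [h3]
            _ = (v j * v j) * (g' * x') := by group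
            _ = g' * x' := by rw [D.v_sq, one_mul]
        calc g' * x' * g'⁻¹ = v j * (x' * g') * g'⁻¹ := by rw [h6]
          _ = v j * x' := by group
          _ = x' * v j := h5.symm
      rw [e0, h4]
      conv_rhs => rw [e1]
      group
  · change (centralizer ((MulAut.conj (u : G) • NU V v j : Subgroup G) : Set G)).relIndex B ≤
      (centralizer (B : Set G)).relIndex (MulAut.conj (u : G) • NU V v j)
    have e1 : centralizer ((MulAut.conj (u : G) • NU V v j : Subgroup G) : Set G) =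
        MulAut.conj (u : G) • centralizer (NU V v j : Set G) := (ChoiceBase.cj_centralizer (u : G) _).symm
    have e2 : B = MulAut.conj (u : G) • (MulAut.conj (u : G)⁻¹ • B : Subgroup G) := by
      rw [conj_conj, mul_inv_cancel, map_one, one_smul]
    have e3 : centralizer (B : Set G) =
        MulAut.conj (u : G) • centralizer ((MulAut.conj (u : G)⁻¹ • B : Subgroup G) : Set G) := by
      conv_lhs => rw [e2]
      exact (ChoiceBase.cj_centralizer (u : G) _).symm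
    rw [e1, e3]
    conv_lhs => rw [e2]
    rw [relIndex_pointwise_smul, relIndex_pointwise_smul]
    have h3 : (MulAut.conj (u : G)⁻¹ • B : Subgroup G) ≤ QQ v i := by
      rw [← D.conj_QQ (inv_mem u.2)]
      exact conj_le_iff.2 hBQ
    refine no_of D hML hK j (h3.trans (D.Q_le_o2D i)) ?_
    rintro _ ⟨y, hy, rfl⟩
    change ((u : G)⁻¹ * y * (u : G)⁻¹⁻¹) ^ 2 = 1
    rw [conj_pow, hB.2 y hy, mul_one, mul_inv_cancel]
  · exact no_of D hML hK i (hBQ.trans (D.Q_le_o2D j)) fun a ha => hB.2 a ha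

/-- the family `N_j^c` -/
def NC (V : Fin 2 → Subgroup G) (v : Fin 2 → G) (i j : Fin 2) (c : CC v i) : Subgroup G := MulAut.conj (c : G) • NU V v j

/-- the family `X_j^c` -/
def XC (V : Fin 2 → Subgroup G) (v : Fin 2 → G) (i j : Fin 2) (c : CC v i) : Subgroup G := MulAut.conj (c : G) • XX V v j

/-- the family `v_j^c` -/
def vC (v : Fin 2 → G) (i j : Fin 2) (c : CC v i) : G := (c : G) * v j * (c : G)⁻¹

omit [Finite G] D in
theorem NC_mul {i j : Fin 2} {k : G} (hk : k ∈ CC v i) (u : CC v i) : NC V v i j (⟨k, hk⟩ * u) = MulAut.conj k • NC V v i j u := by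
  unfold NC
  rw [conj_conj]
  rfl

omit [Finite G] D in
theorem XC_mul {i j : Fin 2} {k : G} (hk : k ∈ CC v i) (u : CC v i) : XC V v i j (⟨k, hk⟩ * u) = MulAut.conj k • XC V v i j u := by
  unfold XC
  rw [conj_conj]
  rfl

omit [Finite G] D in
theorem vC_mul {i j : Fin 2} {k : G} (hk : k ∈ CC v i) (u : CC v i) : vC v i j (⟨k, hk⟩ * u) = k * vC v i j u * k⁻¹ := by
  change k * (u : G) * v j * (k * (u : G))⁻¹ = k * ((u : G) * v j * (u : G)⁻¹) * k⁻¹
  group

omit [Finite G] D in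
theorem M_conj {i j : Fin 2} {k : G} (hk : k ∈ CC v i) {t : G} (ht : t ∈ (⨆ u, NC V v i j u : Subgroup G)) :
    k * t * k⁻¹ ∈ (⨆ u, NC V v i j u : Subgroup G) := by
  have h3 : (⨆ u, NC V v i j u) ≤ (⨆ u, NC V v i j u : Subgroup G).comap (MulAut.conj k).toMonoidHom := by
    refine iSup_le fun u y hy => ?_
    change k * y * k⁻¹ ∈ (⨆ u, NC V v i j u : Subgroup G)
    refine (le_iSup (NC V v i j) (⟨k, hk⟩ * u)) ?_
    rw [NC_mul hk u]
    exact ⟨y, hy, rfl⟩
  exact h3 ht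

omit [Finite G] D in
theorem sup_conj {A B : Subgroup G} {x : G} (hA : ∀ y ∈ A, x * y * x⁻¹ ∈ A) (hB : ∀ y ∈ B, x * y * x⁻¹ ∈ B) :
    ∀ t ∈ A ⊔ B, x * t * x⁻¹ ∈ A ⊔ B := by
  have h3 : A ⊔ B ≤ (A ⊔ B).comap (MulAut.conj x).toMonoidHom :=
    sup_le (fun y hy => mem_sup_left (hA y hy)) fun y hy => mem_sup_right (hB y hy)
  exact fun t ht => h3 ht

/-- the separated element at a vertex -/
theorem sep_at (hML : ML.Final.MLK.{u, u}) (hK : ∀ i, IsKGroup (CC v i)) (h1b : OneB T V v) {i j : Fin 2} (hij : i ≠ j)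
    (hmv : ∃ A ∈ AA (QQ v i), ¬ A ≤ centralizer (V i : Set G))
    (pdd : Peel.PD (QQ v i) (QQ v j) (NU V v i) (NC V v i j) (XC V v i j) (vC v i j)) :
    ∃ u, ∃ g ∈ QQ v i, g ∈ centralizer ((⨆ u, NC V v i j u : Subgroup G) : Set G) ∧
      (∀ p, vC v i j p ≠ vC v i j u → g ∈ centralizer (XC V v i j p : Set G)) ∧
      g ∉ centralizer (XC V v i j u : Set G) := by
  have hVi : V i ≤ NU V v j := by
    have h3 := D.V_le_N j
    rwa [← eq_add_one hij.symm] at h3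
  have hN1 : NU V v j ≤ ⨆ u, NC V v i j u := by
    have h3 : NC V v i j 1 ≤ ⨆ u, NC V v i j u := le_iSup (NC V v i j) 1
    unfold NC at h3
    rwa [OneMemClass.coe_one, map_one, one_smul] at h3
  refine Peel.sep pdd ?_ fun u A hA hAm hcon => ?_
  · obtain ⟨A, hA, hAV⟩ := hmv
    exact ⟨A, hA, fun h => hAV (h.trans (centralizer_le (hVi.trans hN1)))⟩
  · have hA' : (MulAut.conj (u : G)⁻¹ • A : Subgroup G) ∈ AA (QQ v i) := by
      have h3 := cj_mem_AA (u : G)⁻¹ hA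
      have h4 : cj (u : G)⁻¹ (QQ v i) = QQ v i := D.conj_QQ (inv_mem u.2)
      rw [h4] at h3
      exact h3
    refine h1b j _ (D.AA_Q_le hML (hK i) hA') (fun h => hAm ?_) ?_
    · have h3 := conj_le_centralizer (g := (u : G)) h
      rwa [conj_conj, mul_inv_cancel, map_one, one_smul] at h3
    · rintro y ⟨hy, hyN⟩
      have hy' : y ∈ (MulAut.conj (u : G)⁻¹ • A : Subgroup G) := hy
      have h5 : (u : G) * y * (u : G)⁻¹ ∈ A := by
        rw [mem_conj, inv_inv] at hy'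
        exact hy'
      have h3 : (u : G) * y * (u : G)⁻¹ ∈ A ⊓ centralizer (NC V v i j u : Set G) :=
        ⟨h5, mem_cent_conj'.2 hyN⟩
      exact mem_cent_conj'.1 (hcon h3)

/-- **The vertex.** -/
theorem vertex (hML : ML.Final.MLK.{u, u}) (hK : ∀ i, IsKGroup (CC v i)) (h1b : OneB T V v) {i j : Fin 2} (hij : i ≠ j)
    (hmv : ∀ i, ∃ A ∈ AA (QQ v i), ¬ A ≤ centralizer (V i : Set G))
    (pdd : Peel.PD (QQ v i) (QQ v j) (NU V v i) (NC V v i j) (XC V v i j) (vC v i j)) : False := by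
  obtain ⟨u₀, g, hgQ, hgM, hgX, hgu⟩ := sep_at D hML hK h1b hij (hmv i) pdd
  -- a member of `AA Q_j` moving `V j`
  obtain ⟨A, hA, hAV⟩ := hmv j
  obtain ⟨x, hxA, hxV⟩ := SetLike.not_le_iff_exists.1 hAV
  have hxT : x ∈ T := D.Q_le_T j (hA.2.1 hxA)
  have hxo : x ∉ o2 (P j) := fun h => hxV (by rw [Phi.o2_P D j] at h; exact h.2)
  obtain ⟨w, hw, hw1, hwv⟩ := D.exists_ne_v j
  have hxw : x * w * x⁻¹ = w * v j := Phi.moves D hxT hxo hw hw1 hwv
  obtain ⟨l, hl, -, hlw⟩ := D.tr hij.symm hw hw1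
  have hlC : l ∈ CC v i := D.PC j i hij.symm hl
  have hxC : x ∈ CC v i := D.T_le_C i hxT
  -- conjugate `g` to the index `l`
  obtain ⟨k, hkC, hlu⟩ : ∃ k, ∃ hk : k ∈ CC v i, (⟨l, hlC⟩ : CC v i) = ⟨k, hk⟩ * u₀ :=
    ⟨l * (u₀ : G)⁻¹, mul_mem hlC (inv_mem u₀.2), Subtype.ext (by
      change l = l * (u₀ : G)⁻¹ * u₀
      group)⟩
  have hg'Q : k * g * k⁻¹ ∈ QQ v i := (mem_normalizer_iff.1 (MinSimple.VModule.le_normalizer_o2 _ hkC) g).1 hgQ
  have hg'M : k * g * k⁻¹ ∈ centralizer ((⨆ u, NC V v i j u : Subgroup G) : Set G) := by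
    refine mem_centralizer_iff.2 fun t ht => ?_
    have h3 := M_conj (inv_mem hkC) ht
    have h4 := mem_centralizer_iff.1 hgM _ h3
    calc t * (k * g * k⁻¹) = k * (k⁻¹ * t * k⁻¹⁻¹ * g) * k⁻¹ := by group
      _ = k * (g * (k⁻¹ * t * k⁻¹⁻¹)) * k⁻¹ := by rw [h4]
      _ = k * g * k⁻¹ * t := by group
  have hg'l : k * g * k⁻¹ ∉ centralizer (XC V v i j ⟨l, hlC⟩ : Set G) := by
    rw [hlu, XC_mul hkC, mem_cent_conj']
    exact hgu
  have hcl : vC v i j ⟨l, hlC⟩ = w := hlw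
  have hxl : vC v i j (⟨x, hxC⟩ * ⟨l, hlC⟩) = w * v j := by
    rw [vC_mul hxC, hcl, hxw]
  have hne : vC v i j (⟨x, hxC⟩ * ⟨l, hlC⟩) ≠ vC v i j ⟨l, hlC⟩ := by
    rw [hxl, hcl]
    exact fun h => D.ne j (mul_eq_left.1 h)
  have hg'X : k * g * k⁻¹ ∈ centralizer (XC V v i j (⟨x, hxC⟩ * ⟨l, hlC⟩) : Set G) := by
    generalize (⟨x, hxC⟩ * ⟨l, hlC⟩ : CC v i) = p at hne
    have h3 : XC V v i j p = MulAut.conj k • XC V v i j (⟨k⁻¹, inv_mem hkC⟩ * p) := by
      rw [XC_mul (inv_mem hkC) p, conj_conj, mul_inv_cancel, map_one, one_smul]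
    rw [h3, mem_cent_conj']
    refine hgX _ fun h => hne ?_
    rw [hlu, vC_mul hkC, ← h, vC_mul (inv_mem hkC)]
    group
  have hx1 : XC V v i j (⟨x, hxC⟩ * ⟨l, hlC⟩) = MulAut.conj x • XC V v i j ⟨l, hlC⟩ := XC_mul hxC _
  have hx2 : ∀ t ∈ (⨆ u, NC V v i j u) ⊔ NU V v i, x * t * x⁻¹ ∈ (⨆ u, NC V v i j u) ⊔ NU V v i :=
    sup_conj (fun y hy => M_conj hxC hy) fun y hy => (mem_normalizer_iff.1 (D.C_le_N_N i hxC) y).1 hy
  exact Peel.false_of pdd hA hxA hx1 hne hx2 hg'Q hg'M hg'X hg'l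

/-- `[N_0, N_1] = 1` -/
theorem NN (hfix : ∀ i, FixE T v i) (hI : NU V v 0 ⊓ NU V v 1 ≤ zc T) : NU V v 0 ≤ centralizer (NU V v 1 : Set G) := by
  by_contra hne
  refine OneEnd.false_of D (fun x hx e he => hI (mem_inf.2 ⟨?_, ?_⟩)) hne hfix
  · have hx' : x ∈ NU V v 1 := hx
    have he' : e ∈ NU V v 0 := he
    exact mul_mem ((mem_normalizer_iff.1 (D.C_le_N_N 0 (D.N_le_C 1 0 hx')) e).1 he') (inv_mem he')
  · have hx' : x ∈ NU V v 1 := hx
    have he' : e ∈ NU V v 0 := he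
    have hxi : x⁻¹ ∈ NU V v 1 := (NU V v 1).inv_mem hx'
    have h3 : e * x⁻¹ * e⁻¹ ∈ NU V v 1 := (mem_normalizer_iff.1 (D.C_le_N_N 1 (D.N_le_C 0 1 he')) _).1 hxi
    have e4 : x * e * x⁻¹ * e⁻¹ = x * (e * x⁻¹ * e⁻¹) := by group
    rw [e4]
    exact (NU V v 1).mul_mem hx' h3

/-- **The end of THEOREM R.** -/
theorem six (hML : ML.Final.MLK.{u, u}) (hK : ∀ i, IsKGroup (CC v i)) (hV : ∀ i, ¬ V i ≤ NU V v i)
    (h1b : OneB T V v) : False := by
  have hmvQ : ∀ i, ∃ A ∈ AA (QQ v i), ¬ A ≤ centralizer (V i : Set G) := mv D hML hK h1b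
  have hmv : ∀ i, ∃ A ∈ AA (o2 (centralizer (zc T : Set G))), ¬ A ≤ centralizer (V i : Set G) := fun i => by
    obtain ⟨A, hA, hAV⟩ := hmvQ i
    exact ⟨A, D.AA_Q_le hML (hK i) hA, hAV⟩
  have hfix : ∀ i, FixE T v i := fun i => fixE D hML hK (hmv i)
  have hE : EU T v 0 ⊓ EU T v 1 ≤ zc T :=
    D.thmI hML hK (MinSimple.VModule.le_normalizer_o2 _) le_rfl (fun i => (D.E_le_Q i).trans (D.Q_le_o2D i)) hmv
  have hI : NU V v 0 ⊓ NU V v 1 ≤ zc T := (inf_le_inf (D.N_le_E 0) (D.N_le_E 1)).trans hE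
  have hN : NU V v 0 ≤ centralizer (NU V v 1 : Set G) := NN D hfix hI
  have hN' : ∀ i, NU V v i ≤ centralizer (NU V v (i + 1) : Set G) := fun i => by
    have h0 : i = 0 ∨ i = 1 := by clear * -; revert i; decide
    rcases h0 with rfl | rfl
    · exact hN
    · exact comm_symm hN
  -- `[W_{k+1}, N_k] = 1`
  have hW : ∃ k, WU V v (k + 1) ≤ centralizer (NU V v k : Set G) := by
    by_contra hcon
    push Not at hcon
    exact DOne.false_of D hN' hcon hfix
  -- the vertex `v i`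
  obtain ⟨i, j, hij⟩ : ∃ i j : Fin 2, i ≠ j := ⟨0, 1, by decide⟩
  have h1 : XX V v i ≤ centralizer (XX V v j : Set G) := comm_one D hML hK hV hfix hmv hW hij
  have h2 : ∀ c ∈ CC v i, (MulAut.conj c • XX V v j : Subgroup G) ≤ centralizer (XX V v j : Set G) := fun c hc =>
    comm_two D hML hK hV hfix hmv hij h1 hI hc
  exact vertex D hML hK h1b hij hmvQ (pd D hML hK hij h1 h2)

end Cfsg.Agent.Omega.TC.RSix
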