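import Cfsg.Agent.Omega.TC.RSix.GFr
import Cfsg.Agent.Omega.OM.PG.Exact

/-!
# THEOREM R (bb OMEGA #21425), part (6): exactness at the distances one and two, at one vertex

`XX i = W_i N_i`.  Hypotheses: `V i ≰ N_i`, `FixE T v i`, some `A ∈ AA(O₂(D))` moves `V i` (both `i`).

* `comm_one` : `[W_{k+1}, N_k] = 1` for some `k` implies `[X_i, X_j] = 1`;
* `comm_two` : then `[X_j^c, X_j] = 1` for `c ∈ C_i`.
-/

set_option autoImplicit false
set_option linter.unusedSectionVars false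

namespace Cfsg.Agent.Omega.TC.RSix

open Subgroup Cfsg Cfsg.Agent.ZN Cfsg.Agent.Omega.MinPar
open Cfsg.Agent.Omega.OM.KTwo (CC QQ WU NU EU ne_add_one eq_add_one add_one_add_one le_normalizer_V le_V)
open Cfsg.Agent.Omega.NoFF.Basic (conj_conj mem_conj conj_le_iff comm_symm comm_mono Z_le_V V_le
  conj_le_centralizer)
open Cfsg.Agent.Omega.NOThreeL.Pair (conj_eq_of_mem)
open Cfsg.Agent.ZN.ChoiceBase (AA cj)
open Cfsg.Agent.Omega.NO3S.EThree.ExactA (eab_iff)
open Cfsg.Agent.Omega.OM.PG (Cr)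
open Cfsg.Agent.Omega.TC.DOne (FixE)
open scoped Pointwise commutatorElement

universe u

variable {G : Type u} [Group G]

theorem fin2 : ∀ i j k : Fin 2, i ≠ j → k ≠ i → k = j := by decide

/-- `X_i = W_i N_i` -/
def XX (V : Fin 2 → Subgroup G) (v : Fin 2 → G) (i : Fin 2) : Subgroup G := WU V v i ⊔ NU V v i

theorem mem_zp' {a x : G} (ha : a * a = 1) (hx : x ∈ zpowers a) : x = 1 ∨ x = a := by
  obtain ⟨n, rfl⟩ := mem_zpowers_iff.1 hx
  rcases Int.even_or_odd n with ⟨k, rfl⟩ | ⟨k, rfl⟩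
  · left
    rw [← two_mul, zpow_mul, zpow_ofNat, pow_two, ha, one_zpow]
  · right
    rw [zpow_add, zpow_one, zpow_mul, zpow_ofNat, pow_two, ha, one_zpow, one_mul]

theorem cr_mk [Finite G] {a b : G} {N M X Y : Subgroup G} (NX : N ≤ X) (MY : M ≤ Y)
    (Xc : X ≤ centralizer (X : Set G)) (Yc : Y ≤ centralizer (Y : Set G))
    (XnY : X ≤ normalizer (Y : Set G)) (YnX : Y ≤ normalizer (X : Set G))
    (XnM : X ≤ normalizer (M : Set G)) (YnN : Y ≤ normalizer (N : Set G))
    (ha : a * a = 1) (hb : b * b = 1) (hab : a ≠ b)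
    (ca : ∀ x ∈ X, ∀ y ∈ Y, y ∈ centralizer (N : Set G) → x * y * x⁻¹ * y⁻¹ ∈ zpowers a)
    (cb : ∀ x ∈ Y, ∀ y ∈ X, y ∈ centralizer (M : Set G) → x * y * x⁻¹ * y⁻¹ ∈ zpowers b)
    (noN : (centralizer (N : Set G)).relIndex Y ≤ (centralizer (Y : Set G)).relIndex N)
    (noM : (centralizer (M : Set G)).relIndex X ≤ (centralizer (X : Set G)).relIndex M) :
    Cr (zpowers a) (zpowers b) N M X Y where
  NX := NX
  MY := MY
  Xc := fun x hx y hy => (mem_centralizer_iff.1 (Xc hy) x hx)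
  Yc := fun x hx y hy => (mem_centralizer_iff.1 (Yc hy) x hx)
  XnY := XnY
  YnX := YnX
  XnM := XnM
  YnN := YnN
  ca := by
    rw [commutator_le]
    intro x hx y hy
    exact ca x hx y hy.1 hy.2
  cb := by
    rw [commutator_le]
    intro x hx y hy
    exact cb x hx y hy.1 hy.2
  a2 := fun x hx y hy hx1 hy1 =>
    ((mem_zp' ha hx).resolve_left hx1).trans ((mem_zp' ha hy).resolve_left hy1).symm
  b2 := fun x hx y hy hx1 hy1 =>
    ((mem_zp' hb hx).resolve_left hx1).trans ((mem_zp' hb hy).resolve_left hy1).symm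
  ab := by
    rw [eq_bot_iff]
    rintro x ⟨hx, hy⟩
    rw [mem_bot]
    rcases mem_zp' ha hx with h | h
    · exact h
    · rcases mem_zp' hb hy with h' | h'
      · exact h'
      · exact absurd (h.symm.trans h') hab
  noN := by
    have h1 : Nat.card Y = Nat.card (Y ⊓ centralizer (N : Set G) : Subgroup G) *
      (centralizer (N : Set G)).relIndex Y := LemZ.card_eq _ _
    have h2 : Nat.card N = Nat.card (N ⊓ centralizer (Y : Set G) : Subgroup G) *
      (centralizer (Y : Set G)).relIndex N := LemZ.card_eq _ _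
    calc Nat.card Y * Nat.card (N ⊓ centralizer (Y : Set G) : Subgroup G) =
        Nat.card (Y ⊓ centralizer (N : Set G) : Subgroup G) *
        (Nat.card (N ⊓ centralizer (Y : Set G) : Subgroup G) * (centralizer (N : Set G)).relIndex Y) := by
          rw [h1]; ring
      _ ≤ Nat.card (Y ⊓ centralizer (N : Set G) : Subgroup G) *
        (Nat.card (N ⊓ centralizer (Y : Set G) : Subgroup G) * (centralizer (Y : Set G)).relIndex N) :=
          Nat.mul_le_mul_left _ (Nat.mul_le_mul_left _ noN)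
      _ = _ := by rw [← h2]
  noM := by
    have h1 : Nat.card X = Nat.card (X ⊓ centralizer (M : Set G) : Subgroup G) *
      (centralizer (M : Set G)).relIndex X := LemZ.card_eq _ _
    have h2 : Nat.card M = Nat.card (M ⊓ centralizer (X : Set G) : Subgroup G) *
      (centralizer (X : Set G)).relIndex M := LemZ.card_eq _ _
    calc Nat.card X * Nat.card (M ⊓ centralizer (X : Set G) : Subgroup G) =
        Nat.card (X ⊓ centralizer (M : Set G) : Subgroup G) *
        (Nat.card (M ⊓ centralizer (X : Set G) : Subgroup G) * (centralizer (M : Set G)).relIndex X) := by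
          rw [h1]; ring
      _ ≤ Nat.card (X ⊓ centralizer (M : Set G) : Subgroup G) *
        (Nat.card (M ⊓ centralizer (X : Set G) : Subgroup G) * (centralizer (X : Set G)).relIndex M) :=
          Nat.mul_le_mul_left _ (Nat.mul_le_mul_left _ noM)
      _ = _ := by rw [← h2]

/-- if `X = N C_X(Y)` and `Y` normalises `N`, then `[X, Y] ≤ N` -/
theorem comm_of_dich [Finite G] {N X Y : Subgroup G} (Xc : X ≤ centralizer (X : Set G)) (NX : N ≤ X)
    (YnN : Y ≤ normalizer (N : Set G)) (h : X ≤ N ⊔ (X ⊓ centralizer (Y : Set G))) {x y : G} (hx : x ∈ X)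
    (hy : y ∈ Y) : x * y * x⁻¹ * y⁻¹ ∈ N := by
  have hc : N ≤ centralizer ((X ⊓ centralizer (Y : Set G) : Subgroup G) : Set G) :=
    (NX.trans Xc).trans (centralizer_le inf_le_left)
  obtain ⟨n, hn, k, hk, rfl⟩ := OM.PG.Peel.exists_mul_of_comm hc (h hx)
  have e1 : y * k = k * y := mem_centralizer_iff.1 hk.2 y hy
  have e : n * k * y * (n * k)⁻¹ * y⁻¹ = n * (y * n⁻¹ * y⁻¹) := by
    calc n * k * y * (n * k)⁻¹ * y⁻¹ = n * (k * y) * k⁻¹ * n⁻¹ * y⁻¹ := by group
      _ = n * (y * k) * k⁻¹ * n⁻¹ * y⁻¹ := by rw [e1]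
      _ = _ := by group
  rw [e]
  exact mul_mem hn ((mem_normalizer_iff.1 (YnN hy) _).1 (inv_mem hn))

variable [Finite G] {T : Subgroup G} {V P : Fin 2 → Subgroup G} {v : Fin 2 → G} (D : Fr T V P v)

include D

theorem zc_cases {i j : Fin 2} (hij : i ≠ j) {x : G} (hx : x ∈ zc T) :
    x = 1 ∨ x = v i ∨ x = v j ∨ x = v i * v j := by
  have h0 := (D.zT x).1 hx
  rcases ThmI.fin_two_cases hij with ⟨rfl, rfl⟩ | ⟨rfl, rfl⟩
  · exact h0
  · have h1 : v 0 * v 1 = v 1 * v 0 := D.comm_v 1 (D.v_mem_T 0)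
    rw [h1] at h0
    tauto

theorem N_le_X (i : Fin 2) : NU V v i ≤ XX V v i := le_sup_right

theorem X_le_Q (i : Fin 2) : XX V v i ≤ QQ v i := sup_le (D.W_le_Q i) (D.N_le_Q i)

theorem X_le_O (i : Fin 2) : XX V v i ≤ o2 (centralizer (zc T : Set G)) := (X_le_Q D i).trans (D.Q_le_o2D i)

theorem X_le_T (i : Fin 2) : XX V v i ≤ T := (X_le_Q D i).trans (D.Q_le_T i)

theorem C_le_N_X (i : Fin 2) : CC v i ≤ normalizer (XX V v i : Set G) :=
  OM.PG.ThmG.norm_sup (D.C_le_N_W i) (D.C_le_N_N i)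

theorem X_comm (i : Fin 2) : XX V v i ≤ centralizer (XX V v i : Set G) := D.WN_comm i

/-- `[X_i, Q_i] ≤ ⟨v i⟩` -/
theorem com_XQ (i : Fin 2) {x q : G} (hx : x ∈ XX V v i) (hq : q ∈ QQ v i) : x * q * x⁻¹ * q⁻¹ ∈ zpowers (v i) := by
  have hc : WU V v i ≤ centralizer (NU V v i : Set G) := fun w hw =>
    centralizer_le (le_sup_right : NU V v i ≤ WU V v i ⊔ NU V v i) (D.WN_comm i (mem_sup_left hw))
  obtain ⟨w, hw, n, hn, rfl⟩ := OM.PG.Peel.exists_mul_of_comm hc hx
  have e1 : q * n = n * q := mem_centralizer_iff.1 (D.N_le_cent_Q i hn) q hq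
  have e : w * n * q * (w * n)⁻¹ * q⁻¹ = w * q * w⁻¹ * q⁻¹ := by
    calc w * n * q * (w * n)⁻¹ * q⁻¹ = w * (n * q) * n⁻¹ * w⁻¹ * q⁻¹ := by group
      _ = w * (q * n) * n⁻¹ * w⁻¹ * q⁻¹ := by rw [e1]
      _ = _ := by group
  rw [e]
  exact DOne.comm_WQ D i hw hq

/-- `(NO)` for a subgroup of `O₂(D)` of exponent two -/
theorem no_of (hML : ML.Final.MLK.{u, u}) (hK : ∀ i, IsKGroup (CC v i)) (i : Fin 2) {A : Subgroup G}
    (hA : A ≤ o2 (centralizer (zc T : Set G))) (hA2 : ∀ a ∈ A, a ^ 2 = 1) :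
    (centralizer (NU V v i : Set G)).relIndex A ≤ (centralizer (A : Set G)).relIndex (NU V v i) :=
  D.no_N hML (hK i) hA hA2

/-- THEOREM G for a conjugate -/
theorem gside {i : Fin 2} (hfix : FixE T v i) (hV : ¬ V i ≤ NU V v i)
    (hmv : ∃ A ∈ AA (o2 (centralizer (zc T : Set G))), ¬ A ≤ centralizer (V (i + 1) : Set G)) {c y : G}
    (hy : c⁻¹ * y * c ∈ CC v i)
    (h : ∀ x ∈ (MulAut.conj c • XX V v i : Subgroup G), x * y * x⁻¹ * y⁻¹ ∈ (MulAut.conj c • NU V v i : Subgroup G)) :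
    y ∈ centralizer ((MulAut.conj c • NU V v i : Subgroup G) : Set G) := by
  have h1 : c⁻¹ * y * c ∈ centralizer (NU V v i : Set G) := by
    refine thmG_side D hfix hV hmv hy fun x hx => ?_
    have h2 : c * x * c⁻¹ ∈ (MulAut.conj c • XX V v i : Subgroup G) := ⟨x, hx, rfl⟩
    have h3 := h _ h2
    rw [mem_conj] at h3
    have e : c⁻¹ * (c * x * c⁻¹ * y * (c * x * c⁻¹)⁻¹ * y⁻¹) * c =
        x * (c⁻¹ * y * c) * x⁻¹ * (c⁻¹ * y * c)⁻¹ := by group
    rwa [e] at h3
  refine mem_centralizer_iff.2 fun n hn => ?_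
  have hn' : n ∈ (MulAut.conj c • NU V v i : Subgroup G) := hn
  rw [mem_conj] at hn'
  have h4 := mem_centralizer_iff.1 h1 _ hn'
  calc n * y = c * ((c⁻¹ * n * c) * (c⁻¹ * y * c)) * c⁻¹ := by group
    _ = c * ((c⁻¹ * y * c) * (c⁻¹ * n * c)) * c⁻¹ := by rw [h4]
    _ = y * n := by group

/-- the data of the pair `(v i, v j)` -/
theorem cr_one (hML : ML.Final.MLK.{u, u}) (hK : ∀ i, IsKGroup (CC v i)) {i j : Fin 2} (hij : i ≠ j) :
    Cr (zpowers (v i)) (zpowers (v j)) (NU V v i) (NU V v j) (XX V v i) (XX V v j) := by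
  have hC : ∀ k l, XX V v k ≤ CC v l := fun k l => (X_le_T D k).trans (D.T_le_C l)
  refine cr_mk (N_le_X D i) (N_le_X D j) (X_comm D i) (X_comm D j) ((hC i j).trans (C_le_N_X D j))
    ((hC j i).trans (C_le_N_X D i)) ((hC i j).trans (D.C_le_N_N j)) ((hC j i).trans (D.C_le_N_N i))
    (D.v_sq i) (D.v_sq j) (D.v_ne hij) (fun x hx y hy hyN => ?_) (fun x hx y hy hyN => ?_) ?_ ?_
  · exact com_XQ D i hx (D.f3 i ⟨X_le_O D j hy, hyN⟩)
  · exact com_XQ D j hx (D.f3 j ⟨X_le_O D i hy, hyN⟩)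
  · exact no_of D hML hK i (X_le_O D j) (D.WN_sq j)
  · exact no_of D hML hK j (X_le_O D i) (D.WN_sq i)

section

variable (hML : ML.Final.MLK.{u, u}) (hK : ∀ i, IsKGroup (CC v i)) (hV : ∀ i, ¬ V i ≤ NU V v i)
  (hfix : ∀ i, FixE T v i)
  (hmv : ∀ i, ∃ A ∈ AA (o2 (centralizer (zc T : Set G))), ¬ A ≤ centralizer (V i : Set G))

include hML hK hV hfix hmv

theorem comm_of_first {i j : Fin 2}
    (h : XX V v i ≤ NU V v i ⊔ (XX V v i ⊓ centralizer (XX V v j : Set G))) :
    XX V v i ≤ centralizer (XX V v j : Set G) := by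
  have hC : XX V v j ≤ CC v i := (X_le_T D j).trans (D.T_le_C i)
  have h1 : XX V v j ≤ centralizer (NU V v i : Set G) := fun y hy =>
    thmG_side D (hfix i) (hV i) (hmv (i + 1)) (hC hy) fun x hx =>
      comm_of_dich (X_comm D i) (N_le_X D i) (hC.trans (D.C_le_N_N i)) h hx hy
  exact h.trans (sup_le (comm_symm h1) inf_le_right)

/-- **distance one** -/
theorem comm_one (hW : ∃ k, WU V v (k + 1) ≤ centralizer (NU V v k : Set G)) {i j : Fin 2} (hij : i ≠ j) :
    XX V v i ≤ centralizer (XX V v j : Set G) := by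
  have key : ∀ {i j : Fin 2}, i ≠ j → XX V v i ≤ centralizer (XX V v j : Set G) ∨
      ¬ WU V v i ≤ centralizer (NU V v j : Set G) := by
    intro i j hij
    have h := cr_one D hML hK hij
    rcases h.dich with h1 | ⟨-, x, hx, m, hm, hxm, -⟩
    · exact Or.inl (comm_of_first D hML hK hV hfix hmv h1)
    · refine Or.inr fun hc => hxm ?_
      have h2 : XX V v i ≤ centralizer ({m} : Set G) := by
        refine sup_le (fun w hw => ?_) fun n hn => ?_
        · rw [mem_centralizer_singleton_iff]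
          exact (mem_centralizer_iff.1 (hc hw) m hm.1).symm
        · rw [mem_centralizer_singleton_iff]
          exact mem_centralizer_iff.1 hm.2 n hn
      exact commutatorElement_eq_one_iff_mul_comm.2 (mem_centralizer_singleton_iff.1 (h2 hx))
  obtain ⟨k, hk⟩ := hW
  rcases key hij with h | h
  · exact h
  · rcases key hij.symm with h' | h'
    · exact comm_symm h'
    · exfalso
      rcases eq_or_ne k i with e | e
      · rw [e, ← eq_add_one hij] at hk
        exact h' hk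
      · have e' : k = j := fin2 i j k hij e
        rw [e', ← eq_add_one hij.symm] at hk
        exact h hk

omit hV hmv hfix in
/-- `X_j ≤ Q_i` -/
theorem X_le_Q' {i j : Fin 2} (h : XX V v i ≤ centralizer (XX V v j : Set G)) : XX V v j ≤ QQ v i :=
  fun _ hx => D.f3 i ⟨X_le_O D j hx, comm_symm h hx |> centralizer_le (N_le_X D i)⟩

/-- **distance two** -/
theorem comm_two {i j : Fin 2} (hij : i ≠ j) (h1 : XX V v i ≤ centralizer (XX V v j : Set G))
    (hI : NU V v 0 ⊓ NU V v 1 ≤ zc T) {c : G} (hc : c ∈ CC v i) :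
    (MulAut.conj c • XX V v j : Subgroup G) ≤ centralizer (XX V v j : Set G) := by
  by_contra hne
  have hXQ : XX V v j ≤ QQ v i := X_le_Q' D hML hK h1
  have hcQ : ∀ {k : G}, k ∈ CC v i → (MulAut.conj k • XX V v j : Subgroup G) ≤ QQ v i := fun {k} hk => by
    rw [← D.conj_QQ hk]
    exact conj_le_iff.2 hXQ
  have hci : c⁻¹ ∈ CC v i := inv_mem hc
  have hQT : QQ v i ≤ T := D.Q_le_T i
  have hQC : ∀ k, QQ v i ≤ CC v k := fun k => hQT.trans (D.T_le_C k)
  have hNj : ∀ k ∈ QQ v i, k ∈ normalizer (XX V v j : Set G) := fun k hk => C_le_N_X D j (hQC j hk)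
  -- the two elements
  set a := c * v j * c⁻¹ with ha
  have ha2 : a * a = 1 := by
    have e : a * a = c * (v j * v j) * c⁻¹ := by rw [ha]; group
    rw [e, D.v_sq]; group
  have hab : a ≠ v j := by
    intro e
    have h2 : c ∈ CC v j := by
      rw [mem_centralizer_singleton_iff]
      calc c * v j = a * c := by rw [ha]; group
        _ = v j * c := by rw [e]
    apply hne
    rw [conj_eq_of_mem (C_le_N_X D j h2)]
    exact X_comm D j
  have hcj : ∀ {y : G}, y ∈ QQ v i → c⁻¹ * y * c ∈ QQ v i := fun {y} hy => by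
    have h2 := (mem_normalizer_iff.1 (MinSimple.VModule.le_normalizer_o2 _ hci) y).1 hy
    rwa [inv_inv] at h2
  have hCr : Cr (zpowers a) (zpowers (v j)) (MulAut.conj c • NU V v j) (NU V v j) (MulAut.conj c • XX V v j)
      (XX V v j) := by
    refine cr_mk (conj_le_iff.2 (N_le_X D j)) (N_le_X D j) (conj_le_centralizer (X_comm D j)) (X_comm D j)
      (((hcQ hc).trans (hQC j)).trans (C_le_N_X D j)) ?_ (((hcQ hc).trans (hQC j)).trans (D.C_le_N_N j)) ?_
      ha2 (D.v_sq j) hab (fun x hx y hy hyN => ?_) (fun x hx y hy hyN => ?_) ?_ ?_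
    · intro y hy
      rw [NoFF.Main.normalizer_conj, mem_conj]
      exact hNj _ (hcj (hXQ hy))
    · intro y hy
      rw [NoFF.Main.normalizer_conj, mem_conj]
      exact D.C_le_N_N j (hQC j (hcj (hXQ hy)))
    · -- `[X^c, C(N^c)]`
      rw [mem_conj] at hx
      have h2 : c⁻¹ * y * c ∈ centralizer (NU V v j : Set G) := by
        refine mem_centralizer_iff.2 fun n hn => ?_
        have h3 := mem_centralizer_iff.1 hyN (c * n * c⁻¹) ⟨n, hn, rfl⟩
        calc n * (c⁻¹ * y * c) = c⁻¹ * (c * n * c⁻¹ * y) * c := by group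
          _ = c⁻¹ * (y * (c * n * c⁻¹)) * c := by rw [h3]
          _ = c⁻¹ * y * c * n := by group
      have h3 : c⁻¹ * y * c ∈ QQ v j := D.f3 j ⟨D.Q_le_o2D i (hcj (hXQ hy)), h2⟩
      have h4 := com_XQ D j hx h3
      rcases mem_zp' (D.v_sq j) h4 with h5 | h5
      · have e : x * y * x⁻¹ * y⁻¹ = c * (c⁻¹ * x * c * (c⁻¹ * y * c) * (c⁻¹ * x * c)⁻¹ * (c⁻¹ * y * c)⁻¹) * c⁻¹ := by
          group
        rw [e, h5, mul_one, mul_inv_cancel]
        exact one_mem _
      · have e : x * y * x⁻¹ * y⁻¹ = c * (c⁻¹ * x * c * (c⁻¹ * y * c) * (c⁻¹ * x * c)⁻¹ * (c⁻¹ * y * c)⁻¹) * c⁻¹ := by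
          group
        rw [e, h5]
        exact mem_zpowers _
    · exact com_XQ D j hx (D.f3 j ⟨D.Q_le_o2D i (hcQ hc hy), hyN⟩)
    · have e1 : centralizer ((MulAut.conj c • NU V v j : Subgroup G) : Set G) =
          MulAut.conj c • centralizer (NU V v j : Set G) := (ChoiceBase.cj_centralizer c _).symm
      have e2 : XX V v j = MulAut.conj c • (MulAut.conj c⁻¹ • XX V v j : Subgroup G) := by
        rw [conj_conj, mul_inv_cancel, map_one, one_smul]
      have e3 : centralizer (XX V v j : Set G) =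
          MulAut.conj c • centralizer ((MulAut.conj c⁻¹ • XX V v j : Subgroup G) : Set G) := by
        conv_lhs => rw [e2]
        exact (ChoiceBase.cj_centralizer c _).symm
      rw [e1, e3]
      conv_lhs => rw [e2]
      rw [relIndex_pointwise_smul, relIndex_pointwise_smul]
      refine no_of D hML hK j ((hcQ hci).trans (D.Q_le_o2D i)) ?_
      rintro _ ⟨y, hy, rfl⟩
      change (c⁻¹ * y * c⁻¹⁻¹) ^ 2 = 1
      rw [conj_pow, D.WN_sq j y hy, mul_one, mul_inv_cancel]
    · refine no_of D hML hK j ((hcQ hc).trans (D.Q_le_o2D i)) ?_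
      rintro _ ⟨y, hy, rfl⟩
      change (c * y * c⁻¹) ^ 2 = 1
      rw [conj_pow, D.WN_sq j y hy, mul_one, mul_inv_cancel]
  rcases hCr.dich with h | ⟨h, -⟩
  · -- THEOREM G
    apply hne
    have h2 : XX V v j ≤ centralizer ((MulAut.conj c • NU V v j : Subgroup G) : Set G) := fun y hy =>
      gside D (hfix j) (hV j) (hmv (j + 1)) (hQC j (hcj (hXQ hy))) fun x hx =>
        comm_of_dich (conj_le_centralizer (X_comm D j)) hCr.NX hCr.YnN h hx hy
    exact h.trans (sup_le (comm_symm h2) inf_le_right)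
  · -- `a ∈ N_i ∩ N_j`
    have h2 : a ∈ NU V v j := h (mem_zpowers a)
    have h3 : a ∈ NU V v i := by
      have h4 : v j ∈ NU V v i := by
        rw [eq_add_one hij]; exact D.mem_N i
      exact (mem_normalizer_iff.1 (D.C_le_N_N i hc) _).1 h4
    have h4 : a ∈ zc T := by
      apply hI
      rcases ThmI.fin_two_cases hij with ⟨e1, e2⟩ | ⟨e1, e2⟩
      · rw [← e1, ← e2]; exact ⟨h3, h2⟩
      · rw [← e1, ← e2]; exact ⟨h2, h3⟩
    rcases zc_cases D hij h4 with e | e | e | e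
    · exact D.ne j (conj_eq_one_iff.1 e)
    · have h5 : c⁻¹ * v i * c = v i := by
        have := mem_centralizer_singleton_iff.1 hci
        rw [this]; group
      have h6 : c⁻¹ * a * c = v j := by rw [ha]; group
      rw [e, h5] at h6
      exact D.v_ne hij h6
    · exact hab e
    · exact D.thmI_not_conj hij hc e

end

end Cfsg.Agent.Omega.TC.RSix
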