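import Cfsg.Agent.Omega.TC.RSix.GO
import Cfsg.Agent.Omega.TC.RSix.Fix
import Cfsg.Agent.Omega.TC.ThmGOf

/-!
# THEOREM G over `TC.Fr` with a member of `AA(O₂(D))` which moves `V (i+1)` (no swap)

(TC/ThmGOf.lean has the version with `AA T`.)
-/

set_option autoImplicit false
set_option linter.unusedSectionVars false

namespace Cfsg.Agent.Omega.TC.RSix

open Subgroup Cfsg Cfsg.Agent.ZN Cfsg.Agent.Omega.MinPar
open Cfsg.Agent.Omega.OM.KTwo (CC QQ WU NU EU FF ne_add_one eq_add_one add_one_add_one le_normalizer_V le_V)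
open Cfsg.Agent.Omega.NoFF.Basic (conj_conj mem_conj conj_le_iff conj_le_centralizer comm_symm comm_mono
  Z_le_V V_le conj_V_mul)
open Cfsg.Agent.ZN.ChoiceSit (Syl exists_syl syl_conj o2_le_syl syl_not_dvd)
open Cfsg.Agent.ZN.ChoiceBase (AA mem_AA_iff mem_normalizer_iff_cj cj_mono cj_eq_of_mem_normalizer cj_centralizer)
open Cfsg.Agent.Omega.NO3S.EThree.ExactA (NoP eab_iff)
open Cfsg.Agent.Omega.OM
open Cfsg.Agent.Omega.TC.DOne (FixE)
open scoped Pointwise commutatorElement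

universe u

variable {G : Type u} [Group G] [Finite G] {T : Subgroup G} {V P : Fin 2 → Subgroup G} {v : Fin 2 → G}
  (D : Fr T V P v)

include D

theorem gdat {i : Fin 2} (hfix : FixE T v i) (hV : ¬ V i ≤ NU V v i) {A : Subgroup G}
    (hA : A ∈ AA (o2 (centralizer (zc T : Set G)))) (hAV : ¬ A ≤ centralizer (V (i + 1) : Set G)) :
    GO.Dat T (centralizer (zc T : Set G)) (CC v i) (P i) (P (i + 1)) (V i) (V (i + 1)) (NU V v i) A
      (v i) (v (i + 1)) := by
  have hij := ne_add_one i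
  have hXle : V i ⊔ NU V v i ≤ WU V v i ⊔ NU V v i := sup_le_sup_right (D.V_le_W i) _
  have hAe := hA.1
  exact
  { pT := D.T_isPGroup
    TD := D.T_le_D
    DH := D.cent_zc_le i
    odd := syl_not_dvd (D.syl i)
    L2H := D.PC (i + 1) i hij.symm
    HDL := by
      rw [sup_comm]
      exact D.gen hij.symm
    Hv1 := fun h hh => mem_centralizer_singleton_iff.1 hh
    Dv2 := fun d hd => mem_centralizer_singleton_iff.1 (D.cent_zc_le (i + 1) hd)
    comm := fun x hx y hy => mem_centralizer_iff.1 (D.WN_comm i (hXle hy)) x (hXle hx)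
    sq := fun x hx => D.WN_sq i x (hXle hx)
    v1V := D.mem i
    v1ne := D.ne i
    cV1 := D.four i
    v2V := D.mem (i + 1)
    v2ne := D.ne (i + 1)
    cV2 := D.four (i + 1)
    v12 := D.v_notMem hij
    TV1 := D.T_le_N i
    TV2 := D.T_le_N (i + 1)
    L2V1 := D.PN (i + 1) i
    L2V2 := D.PN (i + 1) (i + 1)
    tr2 := fun u hu hu1 => by
      obtain ⟨l, hl, -, e⟩ := D.tr hij.symm hu hu1
      exact ⟨l, hl, e⟩
    L1V1 := D.PN i i
    L1v2 := fun l hl => mem_centralizer_singleton_iff.1 (D.PC i (i + 1) hij hl)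
    tr1 := fun u hu hu1 => by
      obtain ⟨l, hl, -, e⟩ := D.tr hij hu hu1
      exact ⟨l, hl, e⟩
    CV1 := by
      intro g hg
      rw [mem_centralizer_singleton_iff]
      exact (mem_centralizer_iff.1 hg _ (D.mem i)).symm
    v2N := D.mem_N i
    HN := D.C_le_N_N i
    minN := fun M hM hH => D.N_le_of i hM hH
    NT := D.N_le_T i
    fix := fun n hn h => by
      have h1 := hfix n (D.N_le_E i hn) h
      have h2 : zc T ≤ zpowers (v i) ⊔ zpowers (v (i + 1)) := by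
        have e0 : v 0 ∈ zpowers (v i) ⊔ zpowers (v (i + 1)) := by
          have h0 : i = 0 ∨ i + 1 = 0 := by clear * -; revert i; decide
          rcases h0 with e | e
          · rw [e]; exact mem_sup_left (mem_zpowers _)
          · rw [e]; exact mem_sup_right (mem_zpowers _)
        have e1 : v 1 ∈ zpowers (v i) ⊔ zpowers (v (i + 1)) := by
          have h0 : i = 1 ∨ i + 1 = 1 := by clear * -; revert i; decide
          rcases h0 with e | e
          · rw [e]; exact mem_sup_left (mem_zpowers _)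
          · rw [e]; exact mem_sup_right (mem_zpowers _)
        intro x hx
        rcases (D.zT x).1 hx with rfl | rfl | rfl | rfl
        · exact one_mem _
        · exact e0
        · exact e1
        · exact mul_mem e0 e1
      exact h2 h1
    V1N := hV
    L1N := D.P_not_norm i
    AT := hA.2.1.trans D.o2D_le_T
    Ac := fun x hx y hy => mem_centralizer_iff.1 ((eab_iff.1 hAe).1 hy) x hx
    As := (eab_iff.1 hAe).2
    Amax := fun B hB h1 h2 => hA.2.2 B (eab_iff.2 ⟨fun x hx => mem_centralizer_iff.2 fun y hy => h1 y hy x hx, h2⟩)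
      (hB.trans (sup_le hA.2.1 (D.N_le_oD i)))
    AV2 := by
      obtain ⟨a, ha, hac⟩ := SetLike.not_le_iff_exists.1 hAV
      by_contra hcon
      push Not at hcon
      exact hac (mem_centralizer_iff.2 fun x hx => (hcon a ha x hx).symm) }

/-- **THEOREM G** with the hypothesis on `V i` only. -/
theorem thmG_V {i : Fin 2} (hfix : FixE T v i) (hV : ¬ V i ≤ NU V v i)
    (hmv : ∃ A ∈ AA (o2 (centralizer (zc T : Set G))), ¬ A ≤ centralizer (V (i + 1) : Set G)) {K : Subgroup G} (hK : K ≤ CC v i)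
    (hKn : CC v i ≤ normalizer (K : Set G))
    (hKV : ∀ x ∈ V i, ∀ k ∈ K, k * x * k⁻¹ * x⁻¹ ∈ NU V v i ⊔ zpowers (v i)) :
    K ≤ centralizer (NU V v i : Set G) := by
  obtain ⟨A, hA, hAV⟩ := hmv
  exact GO.thmG (gdat D hfix hV hA hAV) hK hKn hKV

/-- **THEOREM G for one side.** -/
theorem thmG_side {i : Fin 2} (hfix : FixE T v i) (hV : ¬ V i ≤ NU V v i)
    (hmv : ∃ A ∈ AA (o2 (centralizer (zc T : Set G))), ¬ A ≤ centralizer (V (i + 1) : Set G)) {c : G} (hc : c ∈ CC v i)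
    (h : ∀ x ∈ WU V v i ⊔ NU V v i, x * c * x⁻¹ * c⁻¹ ∈ NU V v i) : c ∈ centralizer (NU V v i : Set G) := by
  have hX : ∀ g ∈ CC v i, ∀ x ∈ WU V v i ⊔ NU V v i, g * x * g⁻¹ ∈ WU V v i ⊔ NU V v i := by
    intro g hg x hx
    have h1 : WU V v i ⊔ NU V v i ≤ (WU V v i ⊔ NU V v i).comap (MulAut.conj g).toMonoidHom :=
      sup_le (fun y hy => mem_sup_left ((mem_normalizer_iff.1 (D.C_le_N_W i hg) y).1 hy))
        fun y hy => mem_sup_right ((mem_normalizer_iff.1 (D.C_le_N_N i hg) y).1 hy)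
    exact h1 hx
  have hN : ∀ g ∈ CC v i, ∀ x ∈ NU V v i, g * x * g⁻¹ ∈ NU V v i := fun g hg x hx =>
    (mem_normalizer_iff.1 (D.C_le_N_N i hg) x).1 hx
  have hXC : WU V v i ⊔ NU V v i ≤ CC v i := sup_le (D.W_le_C i i) (D.N_le_C i i)
  let K : Subgroup G :=
    { carrier := {k | k ∈ CC v i ∧ ∀ x ∈ WU V v i ⊔ NU V v i, k * x * k⁻¹ * x⁻¹ ∈ NU V v i}
      one_mem' := ⟨one_mem _, fun x _ => by simp⟩
      mul_mem' := by
        rintro a b ⟨ha, ha'⟩ ⟨hb, hb'⟩
        refine ⟨mul_mem ha hb, fun x hx => ?_⟩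
        have e : a * b * x * (a * b)⁻¹ * x⁻¹ = (a * (b * x * b⁻¹ * x⁻¹) * a⁻¹) * (a * x * a⁻¹ * x⁻¹) := by group
        rw [e]
        exact mul_mem (hN a ha _ (hb' x hx)) (ha' x hx)
      inv_mem' := by
        rintro a ⟨ha, ha'⟩
        refine ⟨inv_mem ha, fun x hx => ?_⟩
        have h1 := hN a⁻¹ (inv_mem ha) _ (inv_mem (ha' x hx))
        have e : a⁻¹ * x * a⁻¹⁻¹ * x⁻¹ = a⁻¹ * (a * x * a⁻¹ * x⁻¹)⁻¹ * a⁻¹⁻¹ := by group
        rw [e]
        exact h1 }
  have key : ∀ c ∈ CC v i, ∀ x ∈ K, c * x * c⁻¹ ∈ K := by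
    intro c hc k hk
    refine ⟨mul_mem (mul_mem hc hk.1) (inv_mem hc), fun x hx => ?_⟩
    have h1 : c⁻¹ * x * c ∈ WU V v i ⊔ NU V v i := by
      have := hX c⁻¹ (inv_mem hc) x hx
      rwa [inv_inv] at this
    have e : c * k * c⁻¹ * x * (c * k * c⁻¹)⁻¹ * x⁻¹ =
        c * (k * (c⁻¹ * x * c) * k⁻¹ * (c⁻¹ * x * c)⁻¹) * c⁻¹ := by group
    rw [e]
    exact hN c hc _ (hk.2 _ h1)
  have hKn : CC v i ≤ normalizer (K : Set G) := by
    intro c hc
    rw [mem_normalizer_iff]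
    refine fun x => ⟨key c hc x, fun hx => ?_⟩
    have h1 := key c⁻¹ (inv_mem hc) _ hx
    have e : c⁻¹ * (c * x * c⁻¹) * c⁻¹⁻¹ = x := by group
    rwa [e] at h1
  have hcK : c ∈ K := by
    refine ⟨hc, fun x hx => ?_⟩
    have h1 := inv_mem (h x hx)
    have e : (x * c * x⁻¹ * c⁻¹)⁻¹ = c * x * c⁻¹ * x⁻¹ := by group
    rwa [e] at h1
  have hKle : K ≤ CC v i := fun k hk => hk.1
  have hKV : ∀ x ∈ V i, ∀ k ∈ K, k * x * k⁻¹ * x⁻¹ ∈ NU V v i ⊔ zpowers (v i) := fun x hx k hk =>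
    mem_sup_left (hk.2 x (mem_sup_left (D.V_le_W i hx)))
  exact thmG_V D hfix hV hmv hKle hKn hKV hcK

end Cfsg.Agent.Omega.TC.RSix
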